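import Cfsg.Agent.H768.M5.Fn
import Cfsg.Agent.H411.M5.PGFacts

/-!
# Embeddings of `SN` into `PG` (helper768, task P2 of S5230): closed form
-/

set_option autoImplicit false

namespace Cfsg.Agent.H768.M5

open Cfsg.Agent.H777.M5 Cfsg.Agent.H411.M5

theorem pfacts : PFacts where
  card_SN := Cfsg.Agent.H411.M5.card_SN
  card_SL := Cfsg.Agent.H411.M5.card_SL
  card_SA := Cfsg.Agent.H411.M5.card_SA
  card_SV := Cfsg.Agent.H411.M5.card_SV
  comm_SA := fun _ hx _ hy => SA_comm hx hy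
  comm_SV := fun _ hx _ hy => SV_comm hx hy
  comm_SN := fun _ hx _ hy => comm_SN_mem hx hy
  comm_SL := fun _ hx _ hy => SL_comm hx (SN_le_SC hy)
  heis := fun _ hy hyL _ hg _ hh h1 h2 => SN_comm_of hy hyL hg hh h1 h2

/-- **P2** -/
theorem fn_pg (ψ : PG.SN →* PG) (hψ : Function.Injective ψ) :
    (∀ y : PG.SN, (y : PG) ∈ PG.SL ↔ ψ y ∈ PG.SL) ∧
      ((∀ y : PG.SN, (y : PG) ∈ PG.SV ↔ ψ y ∈ PG.SA) ∨
       Nat.card (Subgroup.normalizer (((PG.SV.subgroupOf PG.SN).map ψ : Subgroup PG) : Set PG)) ≤ 5 ^ 6) :=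
  fn_pg_of pfacts hψ

end Cfsg.Agent.H768.M5
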